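import Groth.Agent.Hopf.DualPair
import Mathlib

/-!
# Simple finite commutative group schemes over a field
-/

set_option autoImplicit false
set_option linter.style.haveILetI false
set_option linter.unusedSectionVars false

universe u

open TensorProduct WithConv

namespace Groth.Misc1.SimpleGrp

variable {k : Type u} [Field k] {A : Type u} [CommRing A] [HopfAlgebra k A] [FiniteDimensional k A]

lemma map_mkQ_eq_zero_iff {I : Ideal A} (z : A ⊗[k] A) :
    TensorProduct.map (I.restrictScalars k).mkQ (I.restrictScalars k).mkQ z = 0 ↔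
      Algebra.TensorProduct.map (Ideal.Quotient.mkₐ k I) (Ideal.Quotient.mkₐ k I) z = 0 := by
  let e := (Submodule.Quotient.restrictScalarsEquiv k I)
  have h : TensorProduct.congr e e (TensorProduct.map (I.restrictScalars k).mkQ (I.restrictScalars k).mkQ z) =
      Algebra.TensorProduct.map (Ideal.Quotient.mkₐ k I) (Ideal.Quotient.mkₐ k I) z := by
    induction z using TensorProduct.induction_on with
    | zero => simp
    | tmul x y => rfl
    | add x y hx hy => simp only [map_add, hx, hy]
  rw [← h]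
  exact (LinearEquiv.map_eq_zero_iff _).symm

lemma isHopfIdeal_span_singleton {y : A} (h0 : Coalgebra.counit (R := k) y = 0)
    (hΔ : Algebra.TensorProduct.map (Ideal.Quotient.mkₐ k (Ideal.span {y}))
      (Ideal.Quotient.mkₐ k (Ideal.span {y})) (Coalgebra.comul (R := k) y) = 0)
    (hS : HopfAlgebra.antipode k y ∈ Ideal.span {y}) : (Ideal.span {y}).IsHopfIdeal k := by
  set I := Ideal.span {y}
  have hy : ∀ (J : Ideal A), y ∈ J → I ≤ J := fun J h => Ideal.span_le.2 (by simpa using h)
  refine { counit_eq_zero := fun x hx => ?_, map_mkQ_comul_eq_zero := fun x hx => ?_,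
           antipode_mem := fun x hx => ?_ }
  · exact hy (RingHom.ker (Bialgebra.counitAlgHom k A)) h0 hx
  · exact (map_mkQ_eq_zero_iff _).2
      (hy (RingHom.ker ((Algebra.TensorProduct.map (Ideal.Quotient.mkₐ k I) (Ideal.Quotient.mkₐ k I)).comp
        (Bialgebra.comulAlgHom k A))) hΔ hx)
  · exact hy (I.comap (HopfAlgebra.antipodeAlgHom k A)) hS hx

lemma isNilpotent_of_counit_eq_zero [IsLocalRing A] {a : A} (ha : Coalgebra.counit (R := k) a = 0) :
    IsNilpotent a := by
  haveI : IsArtinianRing A := IsArtinianRing.of_finite k A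
  have hm : a ∈ IsLocalRing.maximalIdeal A :=
    IsLocalRing.le_maximalIdeal (RingHom.ker_ne_top (Bialgebra.counitAlgHom k A)) (RingHom.mem_ker.2 ha)
  rw [← IsLocalRing.jacobson_eq_maximalIdeal (⊥ : Ideal A) bot_ne_top] at hm
  obtain ⟨m, hm'⟩ := IsArtinianRing.isNilpotent_jacobson_bot (R := A)
  exact ⟨m, (Submodule.mem_bot A).1 (hm'.le (Ideal.pow_mem_pow hm m))⟩

/-- if the augmentation ideal is generated by `y` then powers of `y` span -/
lemma adjoin_eq_top {y : A} (hy : RingHom.ker (Bialgebra.counitAlgHom k A) = Ideal.span {y}) {m : ℕ}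
    (hm : y ^ m = 0) (P : Submodule k A) (hP : ∀ i < m, y ^ i ∈ P) : P = ⊤ := by
  have key : ∀ j, j ≤ m → ∀ a : A, ∃ b, a - y ^ j * b ∈ P := by
    intro j
    induction j with
    | zero => exact fun _ a => ⟨a, by simp⟩
    | succ j ih =>
      intro hj a
      obtain ⟨b, hb⟩ := ih (by omega) a
      have hb' : b - algebraMap k A (Coalgebra.counit (R := k) b) ∈ RingHom.ker (Bialgebra.counitAlgHom k A) := by
        rw [RingHom.mem_ker, map_sub, AlgHom.commutes]
        exact sub_self _
      rw [hy, Ideal.mem_span_singleton'] at hb'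
      obtain ⟨c, hc⟩ := hb'
      refine ⟨c, ?_⟩
      have : a - y ^ (j + 1) * c = (a - y ^ j * b) + Coalgebra.counit (R := k) b • y ^ j := by
        rw [Algebra.smul_def, pow_succ, mul_assoc, mul_comm y c, hc]; ring
      rw [this]
      exact add_mem hb (P.smul_mem _ (hP j (by omega)))
  refine eq_top_iff.2 fun a _ => ?_
  obtain ⟨b, hb⟩ := key m le_rfl a
  simpa [hm] using hb

lemma finrank_le {y : A} (hy : RingHom.ker (Bialgebra.counitAlgHom k A) = Ideal.span {y}) {m : ℕ}
    (hm : y ^ m = 0) : Module.finrank k A ≤ m := by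
  have h := adjoin_eq_top hy hm (Submodule.span k (Set.range fun i : Fin m => y ^ (i : ℕ)))
    fun i hi => Submodule.subset_span ⟨⟨i, hi⟩, rfl⟩
  rw [← finrank_top k A, ← h]
  exact (finrank_range_le_card (R := k) fun i : Fin m => y ^ (i : ℕ)).trans_eq (Fintype.card_fin m)

variable [Coalgebra.IsCocomm k A]

lemma ev_one_mul (φ ψ : WithConv (A →ₗ[k] k)) : (φ * ψ) 1 = φ 1 * ψ 1 := by
  rw [Groth.ComodLib.conv_mul_apply, Bialgebra.comul_one, Algebra.TensorProduct.one_def]
  simp

variable (k A) in
/-- evaluation at the unit, as an algebra map on the dual -/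
noncomputable def ev1 : WithConv (A →ₗ[k] k) →ₐ[k] k :=
  AlgHom.ofLinearMap
    { toFun := fun φ => φ 1, map_add' := fun _ _ => rfl, map_smul' := fun _ _ => rfl }
    (by simp [LinearMap.convOne_def]) ev_one_mul

lemma finite_dual : FiniteDimensional k (WithConv (A →ₗ[k] k)) :=
  Module.Finite.equiv (WithConv.linearEquiv k (A →ₗ[k] k)).symm

lemma finrank_dual : Module.finrank k (WithConv (A →ₗ[k] k)) = Module.finrank k A :=
  (WithConv.linearEquiv k (A →ₗ[k] k)).finrank_eq.trans Subspace.dual_finrank_eq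

lemma exists_groupLike [IsAlgClosed k] (hdual : IsReduced (WithConv (A →ₗ[k] k)))
    (hA : 1 < Module.finrank k A) : ∃ g : A, IsGroupLikeElem k g ∧ g ≠ 1 := by
  haveI := finite_dual (k := k) (A := A)
  haveI := hdual
  suffices h : ∃ f : WithConv (A →ₗ[k] k) →ₐ[k] k, f ≠ ev1 k A by
    obtain ⟨f, hf⟩ := h
    refine ⟨Groth.ComodLib.ofFunctional f.toLinearMap, ?_, fun e => hf ?_⟩
    · rw [Groth.ComodLib.isGroupLikeElem_iff_eval]
      refine ⟨?_, fun φ ψ => ?_⟩
      · exact (Groth.ComodLib.apply_ofFunctional _ _).trans (map_one f)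
      · change (φ * ψ).ofConv _ = φ.ofConv _ * ψ.ofConv _
        rw [Groth.ComodLib.apply_ofFunctional, Groth.ComodLib.apply_ofFunctional, Groth.ComodLib.apply_ofFunctional]
        exact map_mul f φ ψ
    · refine AlgHom.ext fun φ => ?_
      have := (Groth.ComodLib.apply_ofFunctional f.toLinearMap φ.ofConv).symm
      rw [e] at this
      exact this
  by_contra h
  push Not at h
  haveI : IsArtinianRing (WithConv (A →ₗ[k] k)) := IsArtinianRing.of_finite k _
  have hker : Function.Injective (ev1 k A) := by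
    refine (injective_iff_map_eq_zero _).2 fun φ hφ => ?_
    refine IsNilpotent.eq_zero ?_
    rw [← mem_nilradical, nilradical_eq_sInf]
    refine Submodule.mem_sInf.2 fun P (hP : Ideal.IsPrime P) => ?_
    haveI := hP
    haveI : Ideal.IsMaximal P := IsArtinianRing.isMaximal_of_isPrime P
    letI := Ideal.Quotient.field P
    let e : k ≃ₐ[k] (_ ⧸ P) := AlgEquiv.ofBijective (Algebra.ofId k _)
      (IsAlgClosed.algebraMap_bijective_of_isIntegral (k := k) (K := WithConv (A →ₗ[k] k) ⧸ P))
    have h' := DFunLike.congr_fun (h (e.symm.toAlgHom.comp (Ideal.Quotient.mkₐ k P))) φ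
    rw [hφ] at h'
    exact Ideal.Quotient.eq_zero_iff_mem.1 ((map_eq_zero_iff e.symm e.symm.injective).1 h')
  have := LinearMap.finrank_le_finrank_of_injective (f := (ev1 k A).toLinearMap) hker
  rw [finrank_dual, Module.finrank_self] at this
  omega

theorem mu_p [IsAlgClosed k] (p : ℕ) [Fact p.Prime] [CharP k p] [IsLocalRing A]
    (hdual : IsReduced (WithConv (A →ₗ[k] k))) (hA : 1 < Module.finrank k A)
    (hsimple : ∀ I : Ideal A, I.IsHopfIdeal k → I = ⊥ ∨ I = RingHom.ker (Bialgebra.counitAlgHom k A)) :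
    ∃ g : A, IsGroupLikeElem k g ∧ g ^ p = 1 ∧ LinearIndependent k (fun i : Fin p => g ^ (i : ℕ)) ∧
      Module.finrank k A = p := by
  classical
  have hp : p.Prime := Fact.out
  haveI : Nontrivial A := RingHom.domain_nontrivial (Bialgebra.counitAlgHom k A).toRingHom
  haveI : CharP A p := charP_of_injective_algebraMap (algebraMap k A).injective p
  obtain ⟨x, hx, hx1⟩ := exists_groupLike hdual hA
  obtain ⟨m, hm⟩ := isNilpotent_of_counit_eq_zero (k := k) (a := x - 1)
    (by rw [map_sub, hx.counit_eq_one, Bialgebra.counit_one, sub_self])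
  have hex : ∃ j, x ^ p ^ j = 1 := ⟨m, by
    rw [← sub_eq_zero, ← one_pow (p ^ m), ← sub_pow_char_pow]
    exact pow_eq_zero_of_le (Nat.lt_pow_self hp.one_lt).le hm⟩
  have hj0 : Nat.find hex ≠ 0 := fun h0 => hx1 (by simpa [h0] using Nat.find_spec hex)
  set g := x ^ p ^ (Nat.find hex - 1)
  have hg : IsGroupLikeElem k g := hx.pow
  have hgp : g ^ p = 1 := by
    rw [← pow_mul, ← pow_succ, Nat.sub_add_cancel (Nat.pos_of_ne_zero hj0)]
    exact Nat.find_spec hex
  have hg1 : g ≠ 1 := Nat.find_min hex (m := Nat.find hex - 1) (by omega)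
  have hI : (Ideal.span {g - 1}).IsHopfIdeal k := by
    refine isHopfIdeal_span_singleton (by rw [map_sub, hg.counit_eq_one, Bialgebra.counit_one, sub_self]) ?_ ?_
    · have h0 : Ideal.Quotient.mkₐ k (Ideal.span {g - 1}) g = 1 :=
        (Ideal.Quotient.eq).2 (Ideal.mem_span_singleton_self _)
      rw [map_sub, hg.comul_eq_tmul_self, Bialgebra.comul_one, map_sub, map_one,
        Algebra.TensorProduct.map_tmul, h0, ← Algebra.TensorProduct.one_def, sub_self]
    · refine Ideal.mem_span_singleton'.2 ⟨-HopfAlgebra.antipode k g, ?_⟩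
      rw [map_sub, HopfAlgebra.antipode_one, mul_sub, mul_one, neg_mul, hg.antipode_mul_cancel]
      ring
  have hker : RingHom.ker (Bialgebra.counitAlgHom k A) = Ideal.span {g - 1} :=
    ((hsimple _ hI).resolve_left fun h => hg1 (sub_eq_zero.1 (by simpa using h))).symm
  have hle : Module.finrank k A ≤ p := finrank_le hker (by rw [sub_pow_char, one_pow, hgp, sub_self])
  have hord : orderOf g = p := orderOf_eq_prime hgp hg1
  have hli : LinearIndependent k (fun i : Fin p => g ^ (i : ℕ)) := by
    have h0 := (linearIndepOn_isGroupLikeElem (R := k) (A := A)).linearIndependent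
    exact h0.comp (fun i : Fin p => (⟨g ^ (i : ℕ), hg.pow⟩ : {a : A | IsGroupLikeElem k a}))
      (fun i j hij => Fin.ext (pow_injOn_Iio_orderOf (by simp [hord]) (by simp [hord]) (congrArg Subtype.val hij)))
  exact ⟨g, hg, hgp, hli, le_antisymm hle (by simpa using hli.fintype_card_le_finrank)⟩

lemma exists_primitive (hdual : IsLocalRing (WithConv (A →ₗ[k] k))) (hA : 1 < Module.finrank k A) :
    ∃ x : A, Coalgebra.comul x = x ⊗ₜ[k] (1 : A) + (1 : A) ⊗ₜ[k] x ∧ x ≠ 0 := by
  haveI := hdual
  haveI := finite_dual (k := k) (A := A)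
  haveI : IsArtinianRing (WithConv (A →ₗ[k] k)) := IsArtinianRing.of_finite k _
  let M : Ideal (WithConv (A →ₗ[k] k)) := RingHom.ker (ev1 k A)
  have hdec : ∀ φ, φ - algebraMap k _ (ev1 k A φ) ∈ M := fun φ => by
    rw [RingHom.mem_ker, map_sub, AlgHom.commutes]; exact sub_self _
  have hMne : M ≠ ⊥ := by
    intro h
    have := LinearMap.finrank_le_finrank_of_injective (f := (ev1 k A).toLinearMap)
      ((RingHom.injective_iff_ker_eq_bot (ev1 k A)).2 h)
    rw [finrank_dual, Module.finrank_self] at this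
    omega
  have hMM : ¬ M ≤ M * M := by
    intro h
    refine hMne (Submodule.eq_bot_of_le_smul_of_le_jacobson_bot M M (IsNoetherian.noetherian M) h ?_)
    rw [IsLocalRing.jacobson_eq_maximalIdeal (⊥ : Ideal _) bot_ne_top]
    exact IsLocalRing.le_maximalIdeal (RingHom.ker_ne_top _)
  let P : Submodule k (WithConv (A →ₗ[k] k)) := (M * M).restrictScalars k ⊔ Submodule.span k {1}
  obtain ⟨φ₀, hφ₀M, hφ₀⟩ := Set.not_subset.1 hMM
  have hP : φ₀ ∉ P := by
    intro h
    obtain ⟨a, ha, b, hb, hab⟩ := Submodule.mem_sup.1 h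
    obtain ⟨c, rfl⟩ := Submodule.mem_span_singleton.1 hb
    have hc : ev1 k A (a + c • 1) = 0 := by rw [hab]; exact hφ₀M
    rw [map_add, show ev1 k A a = 0 from Ideal.mul_le_left ha, zero_add, map_smul, map_one, smul_eq_mul,
      mul_one] at hc
    rw [hc, zero_smul, add_zero] at hab
    exact hφ₀ (hab ▸ ha)
  obtain ⟨f, hf0, hfP⟩ := Submodule.exists_le_ker_of_lt_top P (lt_top_iff_ne_top.2 fun h => hP (h ▸ trivial))
  have hf1 : f 1 = 0 := hfP (Submodule.mem_sup_right (Submodule.mem_span_singleton_self _))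
  refine ⟨Groth.ComodLib.ofFunctional f, ?_, fun h => hf0 ?_⟩
  · rw [Groth.ComodLib.isPrimitive_iff_eval]
    intro φ ψ
    change (φ * ψ).ofConv _ = φ.ofConv _ * ψ 1 + φ 1 * ψ.ofConv _
    rw [Groth.ComodLib.apply_ofFunctional, Groth.ComodLib.apply_ofFunctional, Groth.ComodLib.apply_ofFunctional]
    change f (φ * ψ) = f φ * ψ 1 + φ 1 * f ψ
    have hmul : f ((φ - algebraMap k _ (φ 1)) * (ψ - algebraMap k _ (ψ 1))) = 0 :=
      hfP (Submodule.mem_sup_left (Ideal.mul_mem_mul (hdec φ) (hdec ψ)))
    simp only [Algebra.algebraMap_eq_smul_one, sub_mul, mul_sub, smul_mul_assoc, mul_smul_comm, one_mul,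
      mul_one, map_sub, map_smul, hf1, smul_eq_mul, mul_zero, sub_zero] at hmul
    linear_combination hmul
  · refine LinearMap.ext fun φ => ?_
    have := (Groth.ComodLib.apply_ofFunctional f φ.ofConv).symm
    rw [h, map_zero] at this
    exact this

theorem alpha_p (p : ℕ) [Fact p.Prime] [CharP k p] [IsLocalRing A]
    (hdual : IsLocalRing (WithConv (A →ₗ[k] k))) (hA : 1 < Module.finrank k A)
    (hsimple : ∀ I : Ideal A, I.IsHopfIdeal k → I = ⊥ ∨ I = RingHom.ker (Bialgebra.counitAlgHom k A)) :
    ∃ x : A, Coalgebra.comul x = x ⊗ₜ[k] (1 : A) + (1 : A) ⊗ₜ[k] x ∧ x ^ p = 0 ∧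
      LinearIndependent k (fun i : Fin p => x ^ (i : ℕ)) ∧ Module.finrank k A = p := by
  classical
  have hp : p.Prime := Fact.out
  haveI : Nontrivial A := RingHom.domain_nontrivial (Bialgebra.counitAlgHom k A).toRingHom
  haveI : Nontrivial (A ⊗[k] A) := RingHom.domain_nontrivial
    (Algebra.TensorProduct.lift (Bialgebra.counitAlgHom k A) (Bialgebra.counitAlgHom k A)
      (fun _ _ => Commute.all _ _)).toRingHom
  haveI : CharP (A ⊗[k] A) p := charP_of_injective_algebraMap (algebraMap k (A ⊗[k] A)).injective p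
  obtain ⟨x₀, hx₀, hx₀0⟩ := exists_primitive hdual hA
  have heps : ∀ x : A, Coalgebra.comul x = x ⊗ₜ[k] (1 : A) + (1 : A) ⊗ₜ[k] x →
      Coalgebra.counit (R := k) x = 0 := by
    intro x hx
    have h := (Groth.ComodLib.isPrimitive_iff_eval x).1 hx 1 1
    rw [one_mul, Groth.ComodLib.conv_one_apply, Groth.ComodLib.conv_one_apply, Bialgebra.counit_one] at h
    simpa using h
  have hpow : ∀ j, Coalgebra.comul (R := k) (x₀ ^ p ^ j) =
      (x₀ ^ p ^ j) ⊗ₜ[k] (1 : A) + (1 : A) ⊗ₜ[k] (x₀ ^ p ^ j) := fun j => by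
    rw [← Bialgebra.comulAlgHom_apply, map_pow, Bialgebra.comulAlgHom_apply, hx₀, add_pow_char_pow,
      Algebra.TensorProduct.tmul_pow, Algebra.TensorProduct.tmul_pow, one_pow]
  obtain ⟨N, hN⟩ := isNilpotent_of_counit_eq_zero (heps _ hx₀)
  have hex : ∃ j, x₀ ^ p ^ j = 0 := ⟨N, pow_eq_zero_of_le (Nat.lt_pow_self hp.one_lt).le hN⟩
  have hj0 : Nat.find hex ≠ 0 := fun h0 => hx₀0 (by simpa [h0] using Nat.find_spec hex)
  set x := x₀ ^ p ^ (Nat.find hex - 1)
  have hx : Coalgebra.comul (R := k) x = x ⊗ₜ[k] (1 : A) + (1 : A) ⊗ₜ[k] x := hpow _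
  have hxp : x ^ p = 0 := by
    rw [← pow_mul, ← pow_succ, Nat.sub_add_cancel (Nat.pos_of_ne_zero hj0)]
    exact Nat.find_spec hex
  have hxne : x ≠ 0 := Nat.find_min hex (m := Nat.find hex - 1) (by omega)
  have hI : (Ideal.span {x}).IsHopfIdeal k := by
    refine isHopfIdeal_span_singleton (heps x hx) ?_ ?_
    · have h0 : Ideal.Quotient.mkₐ k (Ideal.span {x}) x = 0 :=
        Ideal.Quotient.eq_zero_iff_mem.2 (Ideal.mem_span_singleton_self _)
      rw [hx, map_add, Algebra.TensorProduct.map_tmul, Algebra.TensorProduct.map_tmul, h0]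
      simp
    · have h := HopfAlgebra.mul_antipode_rTensor_comul_apply (R := k) x
      rw [hx, heps x hx, map_zero, map_add, map_add] at h
      simp only [LinearMap.rTensor_tmul, LinearMap.mul'_apply, HopfAlgebra.antipode_one, mul_one, one_mul] at h
      rw [eq_neg_of_add_eq_zero_left h]
      exact neg_mem (Ideal.mem_span_singleton_self _)
  have hker : RingHom.ker (Bialgebra.counitAlgHom k A) = Ideal.span {x} :=
    ((hsimple _ hI).resolve_left fun h => hxne (by simpa using h)).symm
  have hle : Module.finrank k A ≤ p := finrank_le hker hxp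
  -- powers below the nilpotency index are independent
  have hex' : ∃ i, x ^ i = 0 := ⟨p, hxp⟩
  set m := Nat.find hex' with hmdef
  have hm : x ^ m = 0 := Nat.find_spec hex'
  have hmle : m ≤ p := Nat.find_min' hex' hxp
  have hm2 : 2 ≤ m := by
    by_contra hlt
    have : x ^ 1 = 0 := pow_eq_zero_of_le (by omega) hm
    exact hxne (by simpa using this)
  have hli : LinearIndependent k (fun i : Fin m => x ^ (i : ℕ)) := by
    rw [Fintype.linearIndependent_iff]
    intro c hc i
    induction i using WellFoundedLT.induction with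
    | _ i ih =>
      have h := congrArg (fun a => a * x ^ (m - 1 - (i : ℕ))) hc
      simp only [Finset.sum_mul, zero_mul, smul_mul_assoc, ← pow_add] at h
      rw [Finset.sum_eq_single i (fun j _ hji => ?_) (by simp)] at h
      · rw [show (i : ℕ) + (m - 1 - i) = m - 1 by omega] at h
        exact (smul_eq_zero.1 h).resolve_right (Nat.find_min hex' (m := m - 1) (by omega))
      · rcases lt_or_gt_of_ne hji with hlt | hgt
        · rw [ih j hlt, zero_smul]
        · rw [pow_eq_zero_of_le (by have : (i : ℕ) < j := hgt; omega) hm, smul_zero]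
  -- the index is `p`
  have hmp : m = p := by
    refine le_antisymm hmle (not_lt.1 fun hlt => ?_)
    have hcoord : ∀ a : Fin m, ∃ φ : A →ₗ[k] k, ∀ i : Fin m, φ (x ^ (i : ℕ)) = if i = a then 1 else 0 := by
      intro a
      obtain ⟨φ, hφ⟩ := LinearMap.exists_extend ((Finsupp.lapply a).comp hli.repr)
      refine ⟨φ, fun i => ?_⟩
      have := LinearMap.congr_fun hφ ⟨x ^ (i : ℕ), Submodule.subset_span ⟨i, rfl⟩⟩
      simp only [LinearMap.comp_apply, Submodule.subtype_apply] at this
      rw [this, hli.repr_eq_single i _ rfl]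
      simp [Finsupp.single_apply]
    obtain ⟨φ, hφ⟩ := hcoord ⟨1, by omega⟩
    obtain ⟨ψ, hψ⟩ := hcoord ⟨m - 1, by omega⟩
    have h := congrArg (fun z => LinearMap.mul' k k (TensorProduct.map φ ψ z))
      (congrArg (Bialgebra.comulAlgHom k A) hm)
    simp only [map_pow, map_zero, Bialgebra.comulAlgHom_apply, hx] at h
    rw [(Commute.all (x ⊗ₜ[k] (1 : A)) ((1 : A) ⊗ₜ[k] x)).add_pow, map_sum, map_sum,
      Finset.sum_eq_single 1] at h
    · simp only [Algebra.TensorProduct.tmul_pow, one_pow, Algebra.TensorProduct.tmul_mul_tmul, one_mul,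
        mul_one, pow_one, Nat.choose_one_right] at h
      rw [← nsmul_eq_mul', map_nsmul, map_nsmul, TensorProduct.map_tmul, LinearMap.mul'_apply] at h
      have h1 := hφ ⟨1, by omega⟩
      have h2 := hψ ⟨m - 1, by omega⟩
      simp only [pow_one, if_true] at h1 h2
      rw [h1, h2, one_mul, nsmul_one] at h
      have := (CharP.cast_eq_zero_iff k p m).1 h
      have := Nat.le_of_dvd (by omega) this
      omega
    · intro i hi hi1
      simp only [Algebra.TensorProduct.tmul_pow, one_pow, Algebra.TensorProduct.tmul_mul_tmul, one_mul, mul_one]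
      rw [← nsmul_eq_mul', map_nsmul, map_nsmul, TensorProduct.map_tmul, LinearMap.mul'_apply]
      have hile : i ≤ m := Nat.lt_succ_iff.1 (Finset.mem_range.1 hi)
      rcases hile.lt_or_eq with hlt' | rfl
      · have h1 := hφ ⟨i, hlt'⟩
        rw [if_neg (fun e => hi1 (congrArg Fin.val e))] at h1
        rw [h1, zero_mul, smul_zero]
      · rw [hm, map_zero, zero_mul, smul_zero]
    · intro h'; exact absurd (Finset.mem_range.2 (by omega)) h'
  have hli' : LinearIndependent k (fun i : Fin p => x ^ (i : ℕ)) :=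
    hli.comp (Fin.cast hmp.symm) (Fin.cast_injective _)
  exact ⟨x, hx, hxp, hli', le_antisymm hle (by simpa using hli'.fintype_card_le_finrank)⟩

theorem etale_prime [IsAlgClosed k] [IsReduced A] (hA : 1 < Module.finrank k A)
    (hsimple : ∀ I : Ideal A, I.IsHopfIdeal k → I = ⊥ ∨ I = RingHom.ker (Bialgebra.counitAlgHom k A)) :
    (Module.finrank k A).Prime := by
  classical
  haveI : IsArtinianRing A := IsArtinianRing.of_finite k A
  letI : CommGroup (WithConv (A →ₐ[k] k)) := inferInstance
  -- points separate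
  have hsep : ∀ a : A, (∀ χ : A →ₐ[k] k, χ a = 0) → a = 0 := by
    intro a ha
    refine IsNilpotent.eq_zero ?_
    rw [← mem_nilradical, nilradical_eq_sInf]
    refine Submodule.mem_sInf.2 fun P (hP : Ideal.IsPrime P) => ?_
    haveI := hP
    haveI : Ideal.IsMaximal P := IsArtinianRing.isMaximal_of_isPrime P
    letI := Ideal.Quotient.field P
    let e : k ≃ₐ[k] (A ⧸ P) := AlgEquiv.ofBijective (Algebra.ofId k _)
      (IsAlgClosed.algebraMap_bijective_of_isIntegral (k := k) (K := A ⧸ P))
    exact Ideal.Quotient.eq_zero_iff_mem.1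
      ((map_eq_zero_iff e.symm e.symm.injective).1 (ha (e.symm.toAlgHom.comp (Ideal.Quotient.mkₐ k P))))
  have hli : LinearIndependent k (AlgHom.toLinearMap : (A →ₐ[k] k) → A →ₗ[k] k) :=
    linearIndependent_algHom_toLinearMap k A k
  haveI : Finite (A →ₐ[k] k) := hli.finite
  haveI : Finite (WithConv (A →ₐ[k] k)) := Finite.of_equiv _ (WithConv.equiv (A →ₐ[k] k)).symm
  letI := Fintype.ofFinite (A →ₐ[k] k)
  -- a set of points separating has cardinality at least the dimension
  have hle : ∀ S : Finset (A →ₐ[k] k), (∀ a : A, (∀ χ ∈ S, χ a = 0) → a = 0) →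
      Module.finrank k A ≤ S.card := by
    intro S hS
    let f : A →ₗ[k] (S → k) := LinearMap.pi fun χ => χ.1.toLinearMap
    have := LinearMap.finrank_le_finrank_of_injective (f := f)
      ((injective_iff_map_eq_zero f).2 fun a ha => hS a fun χ hχ => congrFun ha ⟨χ, hχ⟩)
    simpa using this
  have hcard : Nat.card (WithConv (A →ₐ[k] k)) = Module.finrank k A := by
    rw [Nat.card_congr (WithConv.equiv (A →ₐ[k] k)), Nat.card_eq_fintype_card]
    refine le_antisymm (hli.fintype_card_le_finrank.trans_eq Subspace.dual_finrank_eq) ?_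
    exact hle Finset.univ fun a ha => hsep a fun χ => ha χ (Finset.mem_univ _)
  by_contra hnp
  obtain ⟨l, hl, hdvd⟩ := Nat.exists_prime_and_dvd (n := Module.finrank k A) (by omega)
  haveI := Fact.mk hl
  obtain ⟨g, hg⟩ := exists_prime_orderOf_dvd_card' (G := WithConv (A →ₐ[k] k)) l (hcard ▸ hdvd)
  set H := Subgroup.zpowers g
  have hHcard : Nat.card H = l := (Nat.card_zpowers g).trans hg
  let I : Ideal A := ⨅ χ : H, RingHom.ker χ.1.ofConv
  have hI : ∀ {a : A}, a ∈ I ↔ ∀ χ ∈ H, χ.ofConv a = 0 := fun {a} => by simp [I, Ideal.mem_iInf]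
  have hHopf : I.IsHopfIdeal k := by
    refine { counit_eq_zero := fun x hx => ?_, map_mkQ_comul_eq_zero := fun x hx => ?_,
             antipode_mem := fun x hx => ?_ }
    · simpa [AlgHom.convOne_def] using! hI.1 hx 1 H.one_mem
    · let E : (A ⧸ I.restrictScalars k) →ₗ[k] (H → k) :=
        (I.restrictScalars k).liftQ (LinearMap.pi fun χ : H => χ.1.ofConv.toLinearMap)
          fun a ha => funext fun χ => hI.1 ha χ.1 χ.2
      have hE : Function.Injective E := by
        refine (injective_iff_map_eq_zero E).2 fun y hy => ?_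
        obtain ⟨a, rfl⟩ := Submodule.mkQ_surjective _ y
        exact (Submodule.Quotient.mk_eq_zero _).2 (hI.2 fun χ hχ => congrFun hy ⟨χ, hχ⟩)
      have hEE : Function.Injective (TensorProduct.map E E) := by
        rw [← LinearMap.lTensor_comp_rTensor]
        exact (Module.Flat.lTensor_preserves_injective_linearMap E hE).comp
          (Module.Flat.rTensor_preserves_injective_linearMap E hE)
      refine hEE ?_
      rw [map_zero]
      refine ((Pi.basisFun k H).tensorProduct (Pi.basisFun k H)).ext_elem fun ⟨χ, χ'⟩ => ?_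
      rw [map_zero, Finsupp.zero_apply]
      refine Eq.trans ?_ (hI.1 hx _ (H.mul_mem χ.2 χ'.2))
      rw [AlgHom.convMul_def]
      simp only [ofConv_toConv, AlgHom.comp_apply, Bialgebra.comulAlgHom_apply]
      induction Coalgebra.comul (R := k) x using TensorProduct.induction_on with
      | zero => simp
      | tmul a b => simp [E, mul_comm]
      | add a b ha hb => simp only [map_add, Finsupp.add_apply, ha, hb]
    · exact hI.2 fun χ hχ => hI.1 hx χ⁻¹ (H.inv_mem hχ)
  rcases hsimple I hHopf with h | h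
  · refine hnp ?_
    have hfin : Finite H := inferInstance
    letI := Fintype.ofFinite H
    have := hle ((Finset.univ : Finset H).image fun χ => χ.1.ofConv) fun a ha => by
      have : a ∈ I := hI.2 fun χ hχ => ha _ (Finset.mem_image.2 ⟨⟨χ, hχ⟩, Finset.mem_univ _, rfl⟩)
      rwa [h, Submodule.mem_bot] at this
    have h3 := this.trans Finset.card_image_le
    rw [Finset.card_univ, ← Nat.card_eq_fintype_card, hHcard] at h3
    have h4 := Nat.le_of_dvd (by omega) hdvd
    rwa [show Module.finrank k A = l by omega]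
  · have hg1 : g = 1 := WithConv.ofConv_injective (AlgHom.ext fun a => by
      have ha : a - algebraMap k A (Coalgebra.counit (R := k) a) ∈ I := by
        rw [h, RingHom.mem_ker, map_sub, AlgHom.commutes]; exact sub_self _
      have := hI.1 ha g (Subgroup.mem_zpowers g)
      rw [map_sub, AlgHom.commutes, sub_eq_zero] at this
      simpa [AlgHom.convOne_def] using! this)
    rw [hg1, orderOf_one] at hg
    exact hl.one_lt.ne hg

end Groth.Misc1.SimpleGrp
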